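import Cfsg.Agent.H975.CVB.Levi
import Cfsg.Agent.H373.CV.Base

/-!
# S3442, own characteristic of `Ω_{2m+1}(q)`, `q` odd: the row `odd_own`

* `exists_gram` : isometries of a nondegenerate form as matrices with `Aᵀ B A = B`;
* `FixRow` : hypothesis (F) (fixed vectors of a semisimple element with `∏ ε = 1`);
* `ExRow` : the choice of the element;
* `hit_of` : `FixRow → ExRow → Hit p (POmega F (quadFormOdd m F))`.
-/

set_option autoImplicit false

universe u v w

namespace Cfsg.Agent.H975.CVB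

open Matrix Cfsg QuadraticMap Finset
open Cfsg.Agent.LieClassical.OrthCore Cfsg.Agent.LieClassical.OrthForms
open Cfsg.Agent.H373.CV Cfsg.Agent.LieClassical.OmegaReindex

/-- **Gram matrix.** -/
theorem exists_gram {ι : Type} [Fintype ι] [DecidableEq ι] {F : Type w} [Field F] (Q : QuadraticForm F (ι → F))
    (hQ : (polarBilin Q).Nondegenerate) :
    ∃ B : Matrix ι ι F, IsUnit B ∧ Bᵀ = B ∧ ∀ g : isometryGroup F ⇑Q,
      ((g : GL ι F) : Matrix ι ι F)ᵀ * B * ((g : GL ι F) : Matrix ι ι F) = B := by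
  set B : Matrix ι ι F := LinearMap.toMatrix₂' F (polarBilin Q) with hB
  have hpol : ∀ x y : ι → F, polar ⇑Q x y = x ⬝ᵥ (B *ᵥ y) := by
    intro x y
    rw [← polarBilin_apply_apply, ← Matrix.toLinearMap₂'_apply', hB, Matrix.toLinearMap₂'_toMatrix']
  have hent : ∀ (A : Matrix ι ι F) (i j : ι), A i j = (Pi.single i 1 : ι → F) ⬝ᵥ (A *ᵥ (Pi.single j 1 : ι → F)) := by
    intro A i j
    simp
  refine ⟨B, ?_, ?_, ?_⟩
  · rw [Matrix.isUnit_iff_isUnit_det, isUnit_iff_ne_zero, ← Matrix.nondegenerate_iff_det_ne_zero]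
    exact LinearMap.BilinForm.nondegenerate_toMatrix'_iff.2 hQ
  · ext i j
    rw [transpose_apply, hent B, hent B, ← hpol, ← hpol, polar_comm]
  · intro g
    ext i j
    have hg : ∀ x : ι → F, Q (((g : GL ι F) : Matrix ι ι F) *ᵥ x) = Q x := fun x => g.2 x x
    have h1 : polar ⇑Q (((g : GL ι F) : Matrix ι ι F) *ᵥ (Pi.single i 1)) (((g : GL ι F) : Matrix ι ι F) *ᵥ (Pi.single j 1)) =
        polar ⇑Q (Pi.single i 1) (Pi.single j 1) := by
      rw [polar, polar, ← Matrix.mulVec_add, hg, hg, hg]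
    rw [hent B i j, hent (_ * _) i j, ← hpol, ← h1, hpol, ← mulVec_mulVec, ← mulVec_mulVec, dotProduct_mulVec _ (((g : GL ι F) : Matrix ι ι F)ᵀ),
      vecMul_transpose]

section Omega

variable {F : Type w} [Field F] {m : ℕ}

theorem mem_center_iff (h2 : (2 : F) ≠ 0) (hm : 1 ≤ m) (g : Omega F (quadFormOdd m F)) :
    g ∈ Subgroup.center (Omega F (quadFormOdd m F)) ↔
      Cfsg.Agent.LieClassical.OmegaCenter.omegaMat g = 1 ∨ Cfsg.Agent.LieClassical.OmegaCenter.omegaMat g = -1 := by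
  revert g
  rw [← coe_quadOdd m F]
  intro g
  refine Cfsg.Agent.LieClassical.OmegaCenter.mem_center_omega_iff (quadOdd m F) (quadOdd_nondegenerate h2) ?_
    (quadOdd_isotropic hm) g
  simp
  omega

theorem mul_self_mem [Finite F] (h2 : (2 : F) ≠ 0) (hm : 2 ≤ m) (g : isometryGroup F (quadFormOdd m F)) :
    g * g ∈ Omega F (quadFormOdd m F) := by
  revert g
  rw [← coe_quadOdd m F]
  intro g
  refine Cfsg.Agent.H377.mul_self_mem_Omega (quadOdd m F) (nondeg_of_nondegenerate (quadOdd_nondegenerate h2)) ?_ g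
  simp
  omega

theorem exists_gram_odd (h2 : (2 : F) ≠ 0) :
    ∃ B : Matrix (OIx m) (OIx m) F, IsUnit B ∧ Bᵀ = B ∧ ∀ g : isometryGroup F (quadFormOdd m F),
      ((g : GL (OIx m) F) : Matrix (OIx m) (OIx m) F)ᵀ * B * ((g : GL (OIx m) F) : Matrix (OIx m) (OIx m) F) = B := by
  rw [← coe_quadOdd m F]
  exact exists_gram (quadOdd m F) (quadOdd_nondegenerate h2)

/-- the order modulo the centre -/
theorem orderOf_mk_levO (h2 : (2 : F) ≠ 0) (hm : 1 ≤ m) (M : GL (Fin m) F)
    (hM : levO m F M ∈ Omega F (quadFormOdd m F)) :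
    orderOf (QuotientGroup.mk' (Subgroup.center (Omega F (quadFormOdd m F))) ⟨levO m F M, hM⟩) = orderOf M := by
  have h0 : orderOf (⟨levO m F M, hM⟩ : Omega F (quadFormOdd m F)) = orderOf M := by
    rw [← orderOf_levO M]
    exact Subgroup.orderOf_mk _ _
  apply Nat.dvd_antisymm
  · rw [← h0]
    exact orderOf_map_dvd _ _
  · rw [← h0]
    apply orderOf_dvd_of_pow_eq_one
    set k := orderOf (QuotientGroup.mk' (Subgroup.center (Omega F (quadFormOdd m F))) ⟨levO m F M, hM⟩) with hk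
    have h1 : QuotientGroup.mk' (Subgroup.center (Omega F (quadFormOdd m F))) (⟨levO m F M, hM⟩ ^ k) = 1 := by
      rw [map_pow, hk, pow_orderOf_eq_one]
    rw [QuotientGroup.mk'_apply, QuotientGroup.eq_one_iff, mem_center_iff h2 hm] at h1
    have h3 : Cfsg.Agent.LieClassical.OmegaCenter.omegaMat (⟨levO m F M, hM⟩ ^ k : Omega F (quadFormOdd m F)) =
        levM m F (M ^ k) := by
      show ((((⟨levO m F M, hM⟩ ^ k : Omega F (quadFormOdd m F)) : isometryGroup F (quadFormOdd m F)) :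
        GL (OIx m) F) : Matrix (OIx m) (OIx m) F) = _
      rw [← levO_val, map_pow]
      rfl
    rcases h1 with h1 | h1
    · exact Cfsg.Agent.LieClassical.OmegaCenter.omega_ext (h1.trans rfl)
    · exfalso
      rw [h3] at h1
      have h4 := congrFun (congrFun h1 (.inl ())) (.inl ())
      rw [levM_mid, Matrix.neg_apply, one_apply_eq] at h4
      apply h2
      linear_combination h4

end Omega

/-- **(F)**: an element of `Ω_{2m+1}(q)` of order prime to `p`, conjugate over the algebraic closure to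
`diag(1, ε, ε⁻¹)` with `∏ ε = 1`, has fixed vectors in all modules. -/
def FixRow (F : Type) [Field F] (p m : ℕ) : Prop :=
  ∀ (x : Omega F (quadFormOdd m F)) (g : isometryGroup (AlgebraicClosure F) (quadFormOdd m (AlgebraicClosure F)))
    (ε : Fin m → AlgebraicClosure F), ¬ p ∣ orderOf x →
    ((((x : isometryGroup F (quadFormOdd m F)) : GL (OIx m) F) : Matrix (OIx m) (OIx m) F)).map
        (algebraMap F (AlgebraicClosure F)) =
      ((g : GL (OIx m) (AlgebraicClosure F)) : Matrix (OIx m) (OIx m) (AlgebraicClosure F)) * dgO ε *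
        (((g⁻¹ : isometryGroup (AlgebraicClosure F) (quadFormOdd m (AlgebraicClosure F))) :
          GL (OIx m) (AlgebraicClosure F)) : Matrix (OIx m) (OIx m) (AlgebraicClosure F)) →
    ∏ i, ε i = 1 →
    ∀ (W : Type u) [AddCommGroup W] [Finite W] [Nontrivial W], (∀ w : W, p • w = 0) →
      ∀ φ : Omega F (quadFormOdd m F) →* AddMonoid.End W, ∃ w : W, w ≠ 0 ∧ φ x w = w

/-- **The element.** -/
def ExRow (F : Type) [Field F] (p m : ℕ) : Prop :=
  ∃ N M : GL (Fin m) F, M = N * N ∧ ¬ p ∣ orderOf M ∧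
    (∃ (θ : Fin m → AlgebraicClosure F) (P : GL (Fin m) (AlgebraicClosure F)) (S : Fin m → Bool),
      (M : Matrix (Fin m) (Fin m) F).map (algebraMap F (AlgebraicClosure F)) =
        (P : Matrix (Fin m) (Fin m) (AlgebraicClosure F)) * diagonal θ *
          ((P⁻¹ : GL (Fin m) (AlgebraicClosure F)) : Matrix (Fin m) (Fin m) (AlgebraicClosure F)) ∧
      ∏ j, (if S j then (θ j)⁻¹ else θ j) = 1) ∧
    ∀ g : isometryGroup F (quadFormOdd m F), orderOf M ∣ orderOf g → ¬ p ∣ orderOf g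

/-- `ExRow` with signs and matrices of a bilinear form. -/
theorem ExRow.of_signs {F : Type} [Field F] {p m : ℕ} (h2 : (2 : F) ≠ 0) {N M : GL (Fin m) F} (hNM : M = N * N)
    (hp : ¬ p ∣ orderOf M) {θ : Fin m → AlgebraicClosure F} {P : GL (Fin m) (AlgebraicClosure F)}
    (hP : (M : Matrix (Fin m) (Fin m) F).map (algebraMap F (AlgebraicClosure F)) =
        (P : Matrix (Fin m) (Fin m) (AlgebraicClosure F)) * diagonal θ *
          ((P⁻¹ : GL (Fin m) (AlgebraicClosure F)) : Matrix (Fin m) (Fin m) (AlgebraicClosure F)))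
    {s : Fin m → ℤ} (hs : ∀ j, s j = 1 ∨ s j = -1) (hprod : ∏ j, θ j ^ s j = 1)
    (hno : ∀ (B : Matrix (OIx m) (OIx m) F) (A : GL (OIx m) F), IsUnit B → Bᵀ = B →
      (A : Matrix (OIx m) (OIx m) F)ᵀ * B * (A : Matrix (OIx m) (OIx m) F) = B → orderOf M ∣ orderOf A → ¬ p ∣ orderOf A) :
    ExRow F p m := by
  refine ⟨N, M, hNM, hp, ⟨θ, P, fun j => decide (s j = -1), hP, ?_⟩, ?_⟩
  · rw [← hprod]
    refine Finset.prod_congr rfl fun j _ => ?_
    rcases hs j with h | h
    · simp [h]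
    · simp [h]
  · intro g hg
    obtain ⟨B, hB, hBt, hBg⟩ := exists_gram_odd (m := m) h2
    rw [← Subgroup.orderOf_coe g] at hg ⊢
    exact hno B g hB hBt (hBg g) hg

/-- a fixed vector gives a nonzero norm -/
theorem norm_ne_zero {L : Type v} [Group L] {p : ℕ} (hp : p.Prime) {W : Type u} [AddCommGroup W]
    (hW : ∀ w : W, p • w = 0) (φ : L →* AddMonoid.End W) {x : L} (hx : ¬ p ∣ orderOf x) {w : W} (hw : w ≠ 0)
    (hf : φ x w = w) : ∑ i ∈ range (orderOf x), φ (x ^ i) w ≠ 0 := by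
  have h1 : ∀ i : ℕ, φ (x ^ i) w = w := by
    intro i
    induction i with
    | zero => rw [pow_zero, map_one]; rfl
    | succ i ih =>
      rw [pow_succ, map_mul]
      show φ (x ^ i) (φ x w) = w
      rw [hf, ih]
  rw [Finset.sum_congr rfl fun i _ => h1 i, Finset.sum_const, Finset.card_range]
  intro h2
  apply hw
  have hc : Nat.Coprime p (orderOf x) := (Nat.Prime.coprime_iff_not_dvd hp).2 hx
  have h3 : addOrderOf w ∣ p := addOrderOf_dvd_of_nsmul_eq_zero (hW w)
  have h4 : addOrderOf w ∣ orderOf x := addOrderOf_dvd_of_nsmul_eq_zero h2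
  have h5 : addOrderOf w ∣ 1 := by
    rw [← Nat.Coprime.gcd_eq_one hc]
    exact Nat.dvd_gcd h3 h4
  exact AddMonoid.addOrderOf_eq_one_iff.1 (Nat.dvd_one.1 h5)

/-- **The row.** -/
theorem hit_of (F : Type) [Field F] [Fintype F] (p : ℕ) [Fact p.Prime] [CharP F p] (m : ℕ) (hp2 : p ≠ 2) (hm : 3 ≤ m)
    (hF : FixRow.{u} F p m) (hM : ExRow F p m) : Hit.{u, 0} p (POmega F (quadFormOdd m F)) := by
  have hp : p.Prime := Fact.out
  have h2 : (2 : F) ≠ 0 := by
    intro h
    have h1 : ((2 : ℕ) : F) = 0 := by exact_mod_cast h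
    rw [CharP.cast_eq_zero_iff F p] at h1
    exact hp2 ((Nat.prime_dvd_prime_iff_eq hp Nat.prime_two).1 h1)
  obtain ⟨N, M, hNM, hpM, ⟨θ, P, S, hP, hprod⟩, hno⟩ := hM
  have hmem : levO m F M ∈ Omega F (quadFormOdd m F) := by
    rw [hNM, map_mul]
    exact mul_self_mem h2 (by omega) _
  obtain ⟨g, hg⟩ := conj_levO (algebraMap F (AlgebraicClosure F)) hP S
  have ho : orderOf (⟨levO m F M, hmem⟩ : Omega F (quadFormOdd m F)) = orderOf M := by
    rw [← orderOf_levO M]
    exact Subgroup.orderOf_mk _ _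
  intro W _ _ _ hW φ
  obtain ⟨w, hw, hfix⟩ := hF ⟨levO m F M, hmem⟩ g (fun j => if S j then (θ j)⁻¹ else θ j) (by rwa [ho]) hg hprod W hW
    (φ.comp (QuotientGroup.mk' _))
  have hox := orderOf_mk_levO h2 (by omega) M hmem
  refine ⟨QuotientGroup.mk' _ ⟨levO m F M, hmem⟩, w, norm_ne_zero hp hW φ (by rwa [hox]) hw hfix, ?_⟩
  intro y hy
  obtain ⟨z, rfl⟩ := QuotientGroup.mk'_surjective _ y
  rw [hox] at hy
  have h3 : orderOf (QuotientGroup.mk' (Subgroup.center (Omega F (quadFormOdd m F))) z) ∣ orderOf z := orderOf_map_dvd _ _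
  have h4 : orderOf z = orderOf (z : isometryGroup F (quadFormOdd m F)) := (Subgroup.orderOf_coe z).symm
  rw [hy, h4] at h3
  exact hno z ((Dvd.intro_left p rfl).trans h3) ((Dvd.intro _ rfl).trans h3)

end Cfsg.Agent.H975.CVB
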