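import Cfsg.Agent.H912.BdOrth1
import Cfsg.Agent.H377.ToOmega
import Cfsg.Agent.LieClassical.OmegaCenter
import Cfsg.Agent.LieClassical.OmegaReindex
import Mathlib.LinearAlgebra.Matrix.Permutation

/-!
# S3442, own characteristic of `Ω_{2m+1}(q)`: the Levi element `(1, A, A⁻ᵀ)`

* `levO m F : GL (Fin m) F →* isometryGroup F (quadFormOdd m F)`;
* `swO` : exchange of the two coordinates of some hyperbolic pairs;
* `exists_gram` : isometries as matrices with `Aᵀ B A = B`;
* `conj_levO` : the diagonal form of `levO M` over a bigger field;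
* `orderOf_mk_levO` : the order in `POmega`.
-/

set_option autoImplicit false

universe u v w

namespace Cfsg.Agent.H975.CVB

open Matrix Cfsg Cfsg.Agent.H934.IdxCl QuadraticMap
open Cfsg.Agent.LieClassical.OrthCore Cfsg.Agent.LieClassical.OrthForms

/-- the index type -/
abbrev OIx (m : ℕ) : Type := Unit ⊕ (Fin m ⊕ Fin m)

section Lev

variable {m : ℕ} {F : Type w} [Field F]

variable (m F) in
/-- `(1, A, A⁻ᵀ)` as a matrix -/
def levM : GL (Fin m) F →* Matrix (OIx m) (OIx m) F where
  toFun A := fromBlocks 1 0 0 (lev m F A)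
  map_one' := by simp
  map_mul' A B := by
    rw [fromBlocks_multiply, map_mul]
    simp only [add_zero, zero_add, mul_one, Matrix.mul_zero, Matrix.zero_mul]

theorem levM_apply (A : GL (Fin m) F) : levM m F A = fromBlocks 1 0 0 (lev m F A) := rfl

theorem levM_injective : Function.Injective (levM m F) := by
  intro A B h
  rw [levM_apply, levM_apply, fromBlocks_inj] at h
  exact lev_injective h.2.2.2

theorem quadFormOdd_eq (v : OIx m → F) :
    quadFormOdd m F v = v (.inl ()) ^ 2 + quadFormPlus m F (v ∘ Sum.inr) := rfl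

theorem quadFormOdd_levM (A : GL (Fin m) F) (v : OIx m → F) :
    quadFormOdd m F (levM m F A *ᵥ v) = quadFormOdd m F v := by
  rw [levM_apply, fromBlocks_mulVec, quadFormOdd_eq, quadFormOdd_eq]
  simp only [Sum.elim_comp_inr, Sum.elim_inl, one_mulVec, zero_mulVec, add_zero, zero_add, Function.comp_apply]
  rw [quadFormPlus_lev]

variable (m F) in
/-- `GL_m` as a group of isometries of `quadFormOdd` -/
def levO : GL (Fin m) F →* isometryGroup F (quadFormOdd m F) :=
  (levM m F).toHomUnits.codRestrict _ (fun A => by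
    intro u v
    exact quadFormOdd_levM A u)

theorem levO_val (A : GL (Fin m) F) : (((levO m F A : isometryGroup F (quadFormOdd m F)) :
    GL (OIx m) F) : Matrix (OIx m) (OIx m) F) = levM m F A := rfl

theorem levO_injective : Function.Injective (levO m F) := by
  intro A B h
  apply levM_injective
  rw [← levO_val, ← levO_val, h]

theorem orderOf_levO (A : GL (Fin m) F) : orderOf (levO m F A) = orderOf A :=
  orderOf_injective (levO m F) levO_injective A

/-- the element fixes the middle vector -/
theorem levM_mid (A : GL (Fin m) F) : levM m F A (.inl ()) (.inl ()) = 1 := by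
  rw [levM_apply, fromBlocks_apply₁₁]
  simp

theorem inv_levO_val (A : GL (Fin m) F) : ((((levO m F A)⁻¹ : isometryGroup F (quadFormOdd m F)) :
    GL (OIx m) F) : Matrix (OIx m) (OIx m) F) = levM m F A⁻¹ := by
  rw [← map_inv, levO_val]

end Lev

/-! ### Exchange of coordinates -/

section Sw

variable {m : ℕ} {F : Type w} [Field F]

/-- exchange of `x_j` and `y_j` for `S j` -/
def swF (S : Fin m → Bool) : OIx m → OIx m
  | .inl x => .inl x
  | .inr (.inl j) => if S j then .inr (.inr j) else .inr (.inl j)
  | .inr (.inr j) => if S j then .inr (.inl j) else .inr (.inr j)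

theorem swF_swF (S : Fin m → Bool) : Function.Involutive (swF S) := by
  intro x
  rcases x with x | j | j
  · rfl
  · by_cases h : S j = true <;> simp [swF, h]
  · by_cases h : S j = true <;> simp [swF, h]

/-- the permutation -/
def swP (S : Fin m → Bool) : Equiv.Perm (OIx m) := (swF_swF S).toPerm

theorem swP_apply (S : Fin m → Bool) (x : OIx m) : swP S x = swF S x := rfl

theorem swP_mul (S : Fin m → Bool) : swP S * swP S = 1 := by
  ext1 x
  exact swF_swF S x

theorem permMatrix_swP_mul (S : Fin m → Bool) :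
    (swP S).permMatrix F * (swP S).permMatrix F = 1 := by
  rw [← Matrix.permMatrix_mul, swP_mul, Matrix.permMatrix_one]

/-- as a unit -/
def swU (F : Type w) [Field F] (S : Fin m → Bool) : GL (OIx m) F :=
  ⟨(swP S).permMatrix F, (swP S).permMatrix F, permMatrix_swP_mul S, permMatrix_swP_mul S⟩

theorem quadFormOdd_sw (S : Fin m → Bool) (v : OIx m → F) : quadFormOdd m F (v ∘ swP S) = quadFormOdd m F v := by
  unfold quadFormOdd
  congr 1
  refine Finset.sum_congr rfl fun j _ => ?_
  by_cases h : S j = true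
  · simp only [Function.comp_apply, swP_apply, swF, h, if_true]
    rw [mul_comm]
  · simp only [Function.comp_apply, swP_apply, swF, h, Bool.false_eq_true, if_false]

/-- as an isometry -/
def swO (F : Type w) [Field F] (S : Fin m → Bool) : isometryGroup F (quadFormOdd m F) :=
  ⟨swU F S, by
    intro u v
    change quadFormOdd m F ((swP S).permMatrix F *ᵥ u) = _
    rw [Matrix.permMatrix_mulVec]
    exact quadFormOdd_sw S u⟩

theorem swO_val (S : Fin m → Bool) : (((swO F S : isometryGroup F (quadFormOdd m F)) :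
    GL (OIx m) F) : Matrix (OIx m) (OIx m) F) = (swP S).permMatrix F := rfl

theorem inv_swO_val (S : Fin m → Bool) : ((((swO F S)⁻¹ : isometryGroup F (quadFormOdd m F)) :
    GL (OIx m) F) : Matrix (OIx m) (OIx m) F) = (swP S).permMatrix F := rfl

/-- the diagonal matrix `(1, ε, ε⁻¹)` -/
def dgO {m : ℕ} (ε : Fin m → F) : Matrix (OIx m) (OIx m) F :=
  diagonal (Sum.elim (fun _ => 1) (Sum.elim ε fun i => (ε i)⁻¹))

theorem sw_diag (S : Fin m → Bool) (θ : Fin m → F) :
    (swP S).permMatrix F * dgO (fun j => if S j then (θ j)⁻¹ else θ j) * (swP S).permMatrix F = dgO θ := by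
  have h1 : (swP S).permMatrix F * dgO (fun j => if S j then (θ j)⁻¹ else θ j) = dgO θ * (swP S).permMatrix F := by
    ext x y
    rw [dgO, dgO, Matrix.mul_diagonal, Matrix.diagonal_mul]
    simp only [Equiv.Perm.permMatrix, PEquiv.toMatrix_apply, Equiv.toPEquiv_apply, Option.mem_def, Option.some.injEq]
    by_cases hxy : swP S x = y
    · subst hxy
      rw [if_pos rfl, one_mul, mul_one, swP_apply]
      rcases x with x | j | j
      · rfl
      · by_cases h : S j = true <;> simp [swF, h]
      · by_cases h : S j = true <;> simp [swF, h]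
    · rw [if_neg hxy, zero_mul, mul_zero]
  rw [h1, mul_assoc, permMatrix_swP_mul, mul_one]

theorem levM_diag (θ : Fin m → Fˣ) (D : GL (Fin m) F) (hD : (D : Matrix (Fin m) (Fin m) F) = diagonal fun i => (θ i : F)) :
    levM m F D = dgO (fun i => (θ i : F)) := by
  have h1 : ((D⁻¹ : GL (Fin m) F) : Matrix (Fin m) (Fin m) F) = diagonal fun i => ((θ i : F))⁻¹ := by
    have h2 : (D : Matrix (Fin m) (Fin m) F) * diagonal (fun i => ((θ i : F))⁻¹) = 1 := by
      rw [hD, diagonal_mul_diagonal]
      simp
    have h3 : (D : Matrix (Fin m) (Fin m) F) * ((D⁻¹ : GL (Fin m) F) : Matrix (Fin m) (Fin m) F) = 1 := by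
      rw [← Units.val_mul, mul_inv_cancel, Units.val_one]
    exact D.isUnit.mul_left_cancel (h3.trans h2.symm)
  rw [levM_apply, lev_apply, hD, h1, diagonal_transpose, dgO, fromBlocks_diagonal, ← diagonal_one, fromBlocks_diagonal]

end Sw

/-! ### Base change -/

section Base

variable {m : ℕ} {F : Type v} [Field F] {K : Type w} [Field K] (f : F →+* K)

theorem map_levM (A : GL (Fin m) F) : (levM m F A).map f = levM m K (Matrix.GeneralLinearGroup.map f A) := by
  rw [levM_apply, levM_apply, lev_apply, lev_apply, fromBlocks_map, fromBlocks_map, ← map_inv]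
  simp only [Matrix.map_zero, map_zero, Matrix.map_one, map_one, Matrix.transpose_map]
  rfl

/-- **The diagonal form.** -/
theorem conj_levO {M : GL (Fin m) F} {P : GL (Fin m) K} {θ : Fin m → K}
    (h : (M : Matrix (Fin m) (Fin m) F).map f = (P : Matrix (Fin m) (Fin m) K) * diagonal θ *
      ((P⁻¹ : GL (Fin m) K) : Matrix (Fin m) (Fin m) K)) (S : Fin m → Bool) :
    ∃ g : isometryGroup K (quadFormOdd m K), (levM m F M).map f =
      ((g : GL (OIx m) K) : Matrix (OIx m) (OIx m) K) * dgO (fun j => if S j then (θ j)⁻¹ else θ j) *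
        (((g⁻¹ : isometryGroup K (quadFormOdd m K)) : GL (OIx m) K) : Matrix (OIx m) (OIx m) K) := by
  set D : GL (Fin m) K := P⁻¹ * Matrix.GeneralLinearGroup.map f M * P with hDdef
  have hD : (D : Matrix (Fin m) (Fin m) K) = diagonal θ := by
    have h1 : ((Matrix.GeneralLinearGroup.map f M : GL (Fin m) K) : Matrix (Fin m) (Fin m) K) =
      (P : Matrix (Fin m) (Fin m) K) * diagonal θ * ((P⁻¹ : GL (Fin m) K) : Matrix (Fin m) (Fin m) K) := h
    have h2 : ((P⁻¹ : GL (Fin m) K) : Matrix (Fin m) (Fin m) K) * (P : Matrix (Fin m) (Fin m) K) = 1 := by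
      rw [← Units.val_mul, inv_mul_cancel, Units.val_one]
    rw [hDdef, Units.val_mul, Units.val_mul, h1]
    calc _ = (((P⁻¹ : GL (Fin m) K) : Matrix (Fin m) (Fin m) K) * (P : Matrix (Fin m) (Fin m) K)) * diagonal θ *
        (((P⁻¹ : GL (Fin m) K) : Matrix (Fin m) (Fin m) K) * (P : Matrix (Fin m) (Fin m) K)) := by
          simp only [mul_assoc]
      _ = _ := by rw [h2, one_mul, mul_one]
  have hθ : ∀ i, θ i ≠ 0 := by
    intro i hi
    have h1 : IsUnit (diagonal θ) := hD ▸ D.isUnit
    rw [Matrix.isUnit_diagonal, Pi.isUnit_iff] at h1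
    exact (h1 i).ne_zero hi
  have hD' := levM_diag (fun i => Units.mk0 (θ i) (hθ i)) D (by rw [hD]; rfl)
  have hM : Matrix.GeneralLinearGroup.map f M = P * D * P⁻¹ := by rw [hDdef]; group
  refine ⟨levO m K P * swO K S, ?_⟩
  rw [map_levM, hM, map_mul, map_mul, _root_.mul_inv_rev, Subgroup.coe_mul, Subgroup.coe_mul, Units.val_mul, Units.val_mul,
    inv_swO_val, inv_levO_val, swO_val, levO_val, hD']
  have h3 := sw_diag (F := K) S θ
  calc _ = levM m K P * dgO θ * levM m K P⁻¹ := rfl
    _ = _ := by rw [← h3]; simp only [mul_assoc]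

end Base

end Cfsg.Agent.H975.CVB
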